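import Mathlib

/-!
# The order of an imprimitive group (helper994, S3507)
-/

set_option autoImplicit false

namespace Cfsg.Agent.H994.Cyc

open MulAction Equiv
open scoped Nat Pointwise

/-- the permutations which permute the fibres of `f` -/
def Wr {α β : Type*} (f : α → β) : Set (Perm α) := {σ | ∃ π : Perm β, ∀ x, f (σ x) = π (f x)}

theorem card_Wr_le {α β : Type*} [Finite α] [Finite β] (f : α → β) {a b : ℕ}
    (ha : ∀ y, Nat.card {x // f x = y} = a) (hb : Nat.card β = b) :
    Nat.card (Wr f) ≤ b ! * (a !) ^ b := by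
  classical
  have _ : Fintype α := Fintype.ofFinite α
  have _ : Fintype β := Fintype.ofFinite β
  choose π hπ using fun σ : Wr f => σ.2
  let F : Wr f → Σ π : Perm β, ∀ y, ({x // f x = y} ≃ {x // f x = π y}) := fun σ =>
    ⟨π σ, fun y => (σ : Perm α).subtypeEquiv fun x => by
      rw [hπ]
      exact ((π σ).injective.eq_iff).symm⟩
  have hF : Function.Injective F := by
    intro σ τ h
    apply Subtype.ext
    ext x
    have h1 : ∀ (s t : Σ π : Perm β, ∀ y, ({x // f x = y} ≃ {x // f x = π y})), s = t →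
        ((s.2 (f x) ⟨x, rfl⟩ : {z // f z = s.1 (f x)}) : α) = (t.2 (f x) ⟨x, rfl⟩ : {z // f z = t.1 (f x)}) := by
      rintro s t rfl
      rfl
    exact h1 _ _ h
  have h1 := Nat.card_le_card_of_injective F hF
  refine h1.trans (le_of_eq ?_)
  rw [Nat.card_sigma]
  have h2 : ∀ π : Perm β, Nat.card (∀ y, ({x // f x = y} ≃ {x // f x = π y})) = (a !) ^ b := by
    intro π
    rw [Nat.card_pi]
    have h3 : ∀ y : β, Nat.card ({x // f x = y} ≃ {x // f x = π y}) = a ! := by
      intro y
      have h4 : Fintype.card {x // f x = y} = Fintype.card {x // f x = π y} := by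
        rw [← Nat.card_eq_fintype_card, ← Nat.card_eq_fintype_card, ha, ha]
      rw [Nat.card_eq_fintype_card, Fintype.card_equiv (Fintype.equivOfCardEq h4), ← Nat.card_eq_fintype_card, ha]
    rw [Finset.prod_congr rfl fun y _ => h3 y, Finset.prod_const, Finset.card_univ, ← Nat.card_eq_fintype_card, hb]
  rw [Finset.sum_congr rfl fun π _ => h2 π, Finset.sum_const, Finset.card_univ, Fintype.card_perm, smul_eq_mul,
    ← Nat.card_eq_fintype_card, hb]

/-- a transitive imprimitive group permutes the fibres of a map -/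
theorem exists_fibre {α : Type} [Finite α] (H : Subgroup (Perm α)) (ht : IsPretransitive H α)
    (hp : ¬ IsPreprimitive H α) :
    ∃ (β : Type) (_ : Finite β) (f : α → β) (a b : ℕ), 2 ≤ a ∧ 2 ≤ b ∧ a * b = Nat.card α ∧
      (∀ y, Nat.card {x // f x = y} = a) ∧ Nat.card β = b ∧ ∀ h ∈ H, h ∈ Wr f := by
  classical
  have h1 : ∃ B : Set α, IsBlock H B ∧ ¬ IsTrivialBlock B := by
    by_contra hcon
    push Not at hcon
    exact hp { toIsPretransitive := ht, isTrivialBlock_of_isBlock := fun {B} hB => hcon B hB }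
  obtain ⟨B, hB, hB1⟩ := h1
  have hB2 : ¬ B.Subsingleton ∧ B ≠ Set.univ := by
    exact not_or.mp hB1
  have hBne : B.Nonempty := by
    rcases B.eq_empty_or_nonempty with h | h
    · exact absurd (h ▸ Set.subsingleton_empty) hB2.1
    · exact h
  have hsys := hB.isBlockSystem hBne
  have hcard := hB.ncard_block_mul_ncard_orbit_eq hBne
  -- the block of a point
  have hex : ∀ x : α, ∃ C : Set.range fun g : H => g • B, x ∈ (C : Set α) := by
    intro x
    obtain ⟨C, hC, -⟩ := hsys.1.2 x
    exact ⟨⟨C, hC.1⟩, hC.2⟩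
  choose f hf using hex
  have huniq : ∀ (x : α) (C : Set.range fun g : H => g • B), x ∈ (C : Set α) → f x = C := by
    intro x C hC
    apply Subtype.ext
    obtain ⟨D, -, hD⟩ := hsys.1.2 x
    rw [hD (f x) ⟨(f x).2, hf x⟩, hD C ⟨C.2, hC⟩]
  have hfib : ∀ C : Set.range fun g : H => g • B, Nat.card {x // f x = C} = B.ncard := by
    rintro ⟨_, g, rfl⟩
    have h2 : Nat.card {x // f x = ⟨g • B, g, rfl⟩} = (g • B).ncard := by
      rw [← Nat.card_coe_set_eq]
      apply Nat.card_congr
      refine Equiv.subtypeEquivRight fun x => ?_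
      constructor
      · intro h
        have := hf x
        rw [h] at this
        exact this
      · intro h
        exact huniq x _ h
    rw [h2]
    exact Set.ncard_image_of_injective B (MulAction.injective g)
  have hrange : (Set.range fun g : H => g • B).ncard = (orbit H B).ncard := rfl
  refine ⟨_, inferInstance, f, B.ncard, (orbit H B).ncard, ?_, ?_, hcard, hfib, ?_, ?_⟩
  · rw [Nat.succ_le_iff, Set.one_lt_ncard_iff_nontrivial]
    exact Set.not_subsingleton_iff.mp hB2.1
  · by_contra hlt
    have h3 : (orbit H B).ncard ≠ 0 := Set.ncard_ne_zero_of_mem (mem_orbit_self B)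
    have h4 : (orbit H B).ncard = 1 := by omega
    rw [h4, mul_one] at hcard
    apply hB2.2
    apply Set.eq_of_subset_of_ncard_le (Set.subset_univ _)
    rw [Set.ncard_univ, ← hcard]
  · rw [Nat.card_coe_set_eq]
    rfl
  · intro h hh
    have hmem : ∀ (g : H) (C : Set.range fun g : H => g • B), g • (C : Set α) ∈ Set.range fun g : H => g • B := by
      rintro g ⟨_, k, rfl⟩
      exact ⟨g * k, mul_smul g k B⟩
    refine ⟨⟨fun C => ⟨(⟨h, hh⟩ : H) • (C : Set α), hmem _ _⟩, fun C => ⟨(⟨h, hh⟩ : H)⁻¹ • (C : Set α), hmem _ _⟩,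
      fun C => Subtype.ext (inv_smul_smul _ _), fun C => Subtype.ext (smul_inv_smul _ _)⟩, fun x => ?_⟩
    apply huniq
    exact ⟨x, hf x, rfl⟩

/-- a group containing the alternating group has order at least `m! / 2` -/
theorem two_mul_card {m : ℕ} (hm : 2 ≤ m) {G : Subgroup (Perm (Fin m))} (hG : alternatingGroup (Fin m) ≤ G) :
    m ! ≤ 2 * Nat.card G := by
  have : Nontrivial (Fin m) := Fin.nontrivial_iff_two_le.mpr hm
  have h1 := two_mul_nat_card_alternatingGroup (α := Fin m)
  rw [Nat.card_perm, Nat.card_fin] at h1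
  rw [← h1]
  exact Nat.mul_le_mul_left _ (Subgroup.card_le_of_le hG)

theorem eq_top_of_odd {m : ℕ} {G : Subgroup (Perm (Fin m))} (hG : alternatingGroup (Fin m) ≤ G)
    (h : ¬ G ≤ alternatingGroup (Fin m)) : G = ⊤ := by
  obtain ⟨σ, hσG, hσ⟩ := SetLike.not_le_iff_exists.mp h
  rw [eq_top_iff]
  intro τ _
  have hs : Perm.sign σ = -1 := by
    rcases Int.units_eq_one_or (Perm.sign σ) with h | h
    · exact absurd (Perm.mem_alternatingGroup.mpr h) hσ
    · exact h
  rcases Int.units_eq_one_or (Perm.sign τ) with h1 | h1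
  · exact hG (Perm.mem_alternatingGroup.mpr h1)
  · have h2 : σ⁻¹ * τ ∈ G := hG (by
      rw [Perm.mem_alternatingGroup, map_mul, map_inv, hs, h1]
      rfl)
    have h3 := G.mul_mem hσG h2
    rwa [mul_inv_cancel_left] at h3

/-- **imprimitive subgroups of the symmetric and the alternating group** -/
theorem imprim {m : ℕ} {G H : Subgroup (Perm (Fin m))} (hG : alternatingGroup (Fin m) ≤ G) (hle : H ≤ G)
    (ht : IsPretransitive H (Fin m)) (hp : ¬ IsPreprimitive H (Fin m)) (hm : 2 ≤ m) :
    ∃ a b, 2 ≤ a ∧ 2 ≤ b ∧ a * b = m ∧ m ! * Nat.card H ≤ Nat.card G * (b ! * (a !) ^ b) := by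
  classical
  obtain ⟨β, _, f, a, b, ha, hb, hab, hfib, hβ, hW⟩ := exists_fibre H ht hp
  rw [Nat.card_fin] at hab
  refine ⟨a, b, ha, hb, hab, ?_⟩
  have hWc := card_Wr_le f hfib hβ
  by_cases hHA : H ≤ alternatingGroup (Fin m)
  · -- a transposition preserving the fibres
    have h1 : ∃ y : β, True := by
      have : Nonempty β := by
        rw [← not_isEmpty_iff]
        intro h
        rw [Nat.card_of_isEmpty] at hβ
        omega
      exact ⟨this.some, trivial⟩
    obtain ⟨y, -⟩ := h1
    have h2 : 1 < Nat.card {x // f x = y} := by rw [hfib]; omega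
    obtain ⟨⟨u, hu⟩, ⟨v, hv⟩, huv⟩ : Nontrivial {x // f x = y} := Finite.one_lt_card_iff_nontrivial.mp h2
    have huv' : u ≠ v := fun h => huv (Subtype.ext h)
    have hsw : ∀ x, f (swap u v x) = f x := by
      intro x
      rw [swap_apply_def]
      split_ifs with h3 h4
      · rw [h3, hu, hv]
      · rw [h4, hu, hv]
      · rfl
    have h2H : 2 * Nat.card H ≤ Nat.card (Wr f) := by
      let F : Bool × H → Wr f := fun p =>
        ⟨(if p.1 then swap u v else 1) * (p.2 : Perm (Fin m)), by
          obtain ⟨π, hπ⟩ := hW p.2 p.2.2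
          refine ⟨π, fun x => ?_⟩
          rw [Perm.mul_apply]
          split_ifs
          · rw [hsw, hπ]
          · rw [Perm.one_apply, hπ]⟩
      have hF : Function.Injective F := by
        rintro ⟨p, h⟩ ⟨q, k⟩ he
        have he1 : (if p then swap u v else 1) * (h : Perm (Fin m)) = (if q then swap u v else 1) * (k : Perm (Fin m)) :=
          congrArg Subtype.val he
        have hs := congrArg Perm.sign he1
        have h3 : Perm.sign (h : Perm (Fin m)) = 1 := Perm.mem_alternatingGroup.mp (hHA h.2)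
        have h4 : Perm.sign (k : Perm (Fin m)) = 1 := Perm.mem_alternatingGroup.mp (hHA k.2)
        rw [map_mul, map_mul, h3, h4, mul_one, mul_one] at hs
        have hpq : p = q := by
          cases p <;> cases q <;> simp_all [Perm.sign_swap huv']
        subst hpq
        have h5 := mul_left_cancel he1
        rw [Prod.mk.injEq]
        exact ⟨rfl, Subtype.ext h5⟩
      have := Nat.card_le_card_of_injective F hF
      rwa [Nat.card_prod, Nat.card_eq_fintype_card (α := Bool), Fintype.card_bool] at this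
    calc m ! * Nat.card H ≤ (2 * Nat.card G) * Nat.card H := Nat.mul_le_mul_right _ (two_mul_card hm hG)
      _ = Nat.card G * (2 * Nat.card H) := by ring
      _ ≤ Nat.card G * (b ! * (a !) ^ b) := Nat.mul_le_mul_left _ (h2H.trans hWc)
  · have h1 : G = ⊤ := eq_top_of_odd hG fun h => hHA (hle.trans h)
    have h2 : Nat.card G = m ! := by
      rw [h1, Subgroup.card_top, Nat.card_perm, Nat.card_fin]
    rw [h2]
    apply Nat.mul_le_mul_left
    refine le_trans ?_ hWc
    exact Nat.card_le_card_of_injective (fun h : H => (⟨h, hW h h.2⟩ : Wr f)) fun x y h =>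
      Subtype.ext (congrArg (fun z : Wr f => (z : Perm (Fin m))) h)

end Cfsg.Agent.H994.Cyc
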