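import Mathlib
import Cfsg.Agent.H384.Cyc.Defs
import Cfsg.Agent.StandardComponent.AltAut

/-!
# S3507, alternating socles: the embedding into the symmetric group (helper994)
-/

set_option autoImplicit false

namespace Cfsg.Agent.H994.Cyc

open MulAction Equiv Cfsg.Agent.H384.Cyc

universe u v

/-- an almost simple group with socle `A_m`, `m ≥ 7`, embeds in `S_m` -/
theorem exists_hom {G : Type u} [Group G] (T : Subgroup G) [T.Normal]
    (hC : Subgroup.centralizer (T : Set G) = ⊥) {m : ℕ} (hm : 7 ≤ m) (e : T ≃* alternatingGroup (Fin m)) :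
    ∃ φ : G →* Perm (Fin m), Function.Injective φ ∧ T.map φ = alternatingGroup (Fin m) ∧
      ∀ t : T, φ t = e t := by
  obtain ⟨ψ, hψ⟩ := Cfsg.Agent.StandardComponent.AltAut.exists_autHom m hm
  obtain ⟨φ, hφ⟩ : ∃ φ : G →* Perm (Fin m), ∀ g, φ g = ψ (MulAut.congr e (MulAut.conjNormal g)) :=
    ⟨(ψ.comp (MulAut.congr e).toMonoidHom).comp MulAut.conjNormal, fun g => rfl⟩
  have hconj : ∀ (g : G) (x : T), ((e (MulAut.conjNormal g x) : alternatingGroup (Fin m)) : Perm (Fin m)) =
      φ g * (e x : Perm (Fin m)) * (φ g)⁻¹ := by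
    intro g x
    rw [hφ, ← hψ]
    simp [MulAut.congr]
  have hT : ∀ t : T, φ t = e t := by
    intro t
    obtain ⟨k, rfl⟩ : ∃ k, m = k + 2 := ⟨m - 2, by omega⟩
    apply Cfsg.Agent.StandardComponent.AltAut.conj_unique (m := k) (by omega)
    intro x
    obtain ⟨y, rfl⟩ := e.surjective x
    rw [← hconj]
    have h1 : MulAut.conjNormal (t : G) y = t * y * t⁻¹ := by
      apply Subtype.ext
      simp
    rw [h1]
    simp
  refine ⟨φ, ?_, ?_, hT⟩
  · rw [injective_iff_map_eq_one]
    intro g hg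
    have h1 : g ∈ Subgroup.centralizer (T : Set G) := by
      rw [Subgroup.mem_centralizer_iff]
      intro x hx
      have h2 := hconj g ⟨x, hx⟩
      rw [hg, one_mul, inv_one, mul_one] at h2
      have h3 := e.injective (Subtype.ext h2)
      have h4 := congrArg (fun z : T => (z : G)) h3
      simp only [MulAut.conjNormal_apply] at h4
      rw [mul_inv_eq_iff_eq_mul] at h4
      exact h4.symm
    rw [hC] at h1
    exact Subgroup.mem_bot.mp h1
  · ext σ
    rw [Subgroup.mem_map]
    constructor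
    · rintro ⟨t, ht, rfl⟩
      rw [show φ t = φ ((⟨t, ht⟩ : T) : G) from rfl, hT]
      exact (e ⟨t, ht⟩).2
    · intro hσ
      obtain ⟨t, ht⟩ := e.surjective ⟨σ, hσ⟩
      exact ⟨t, t.2, by rw [hT, ht]⟩

end Cfsg.Agent.H994.Cyc
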