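import Mathlib

/-!
# Numbers for S3507, alternating socles (helper994)
-/

set_option autoImplicit false

namespace Cfsg.Agent.H994.Cyc

open scoped Nat

theorem three_pow_le_choose (k : ℕ) : ∀ N : ℕ, 3 * k ≤ N → 3 ^ k ≤ N.choose k := by
  induction k with
  | zero => intro N _; simp
  | succ k ih =>
    intro N hN
    obtain ⟨M, rfl⟩ : ∃ M, N = M + 1 := ⟨N - 1, by omega⟩
    have h1 := ih M (by omega)
    have h2 := Nat.add_one_mul_choose_eq M k
    have h3 : 3 * (k + 1) * M.choose k ≤ (M + 1).choose (k + 1) * (k + 1) := by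
      rw [← h2]
      exact Nat.mul_le_mul_right _ hN
    have h4 : 3 * M.choose k ≤ (M + 1).choose (k + 1) := by
      have : (k + 1) * (3 * M.choose k) ≤ (k + 1) * (M + 1).choose (k + 1) := by nlinarith
      exact Nat.le_of_mul_le_mul_left this (by omega)
    calc 3 ^ (k + 1) = 3 * 3 ^ k := by ring
      _ ≤ 3 * M.choose k := Nat.mul_le_mul_left _ h1
      _ ≤ _ := h4

/-- the inequality -/
def Good (a b : ℕ) : Prop := 8 * 3 ^ (a * b) * (b ! * (a !) ^ b) ^ 3 < ((a * b)!) ^ 3

theorem fact_step (a b : ℕ) (ha : 1 ≤ a) :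
    (a * (b + 1))! = (a * b)! * (a ! * (b + 1) * (a * b + a - 1).choose (a - 1)) := by
  obtain ⟨c, rfl⟩ : ∃ c, a = c + 1 := ⟨a - 1, by omega⟩
  have h1 : (c + 1) * (b + 1) = (c + 1) * b + (c + 1) := by ring
  rw [h1]
  have h2 := Nat.add_choose_mul_factorial_mul_factorial ((c + 1) * b) (c + 1)
  have h3 : (c + 1) * b + (c + 1) - 1 = (c + 1) * b + c := by omega
  have h4 : c + 1 - 1 = c := rfl
  rw [h3, h4]
  have h5 := Nat.add_one_mul_choose_eq ((c + 1) * b + c) c
  have h6 : ((c + 1) * b + (c + 1)).choose (c + 1) = (b + 1) * ((c + 1) * b + c).choose c := by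
    have : (c + 1) * ((c + 1) * b + (c + 1)).choose (c + 1) =
        (c + 1) * ((b + 1) * ((c + 1) * b + c).choose c) := by
      calc (c + 1) * ((c + 1) * b + (c + 1)).choose (c + 1)
          = ((c + 1) * b + c + 1).choose (c + 1) * (c + 1) := by rw [mul_comm]; rfl
        _ = ((c + 1) * b + c + 1) * ((c + 1) * b + c).choose c := h5.symm
        _ = (c + 1) * ((b + 1) * ((c + 1) * b + c).choose c) := by ring
    exact Nat.eq_of_mul_eq_mul_left (by omega) this
  rw [← h2, h6]
  ring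

theorem Good.step {a b : ℕ} (ha : 2 ≤ a) (hb : 2 ≤ b) (h : Good a b) : Good a (b + 1) := by
  unfold Good at h ⊢
  rw [fact_step a b (by omega)]
  have h1 : 3 ^ (a - 1) ≤ (a * b + a - 1).choose (a - 1) := by
    apply three_pow_le_choose
    have : a * 2 ≤ a * b := Nat.mul_le_mul_left _ hb
    omega
  have h2 : 3 ^ a ≤ ((a * b + a - 1).choose (a - 1)) ^ 3 := by
    calc 3 ^ a ≤ 3 ^ ((a - 1) * 3) := Nat.pow_le_pow_right (by norm_num) (by omega)
      _ = (3 ^ (a - 1)) ^ 3 := by rw [pow_mul]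
      _ ≤ _ := Nat.pow_le_pow_left h1 3
  have h3 : (b + 1)! = (b + 1) * b ! := Nat.factorial_succ b
  have h4 : 0 < a ! := Nat.factorial_pos a
  calc 8 * 3 ^ (a * (b + 1)) * ((b + 1)! * (a !) ^ (b + 1)) ^ 3
      = (8 * 3 ^ (a * b) * (b ! * (a !) ^ b) ^ 3) * (3 ^ a * (a ! * (b + 1)) ^ 3) := by
        rw [h3, mul_add, pow_add, pow_succ, mul_one]
        ring
    _ < ((a * b)!) ^ 3 * (3 ^ a * (a ! * (b + 1)) ^ 3) := by
        apply Nat.mul_lt_mul_of_pos_right h
        positivity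
    _ ≤ ((a * b)!) ^ 3 * (((a * b + a - 1).choose (a - 1)) ^ 3 * (a ! * (b + 1)) ^ 3) :=
        Nat.mul_le_mul_left _ (Nat.mul_le_mul_right _ h2)
    _ = ((a * b)! * (a ! * (b + 1) * (a * b + a - 1).choose (a - 1))) ^ 3 := by ring

theorem Good.of_le {a b c : ℕ} (ha : 2 ≤ a) (hb : 2 ≤ b) (hbc : b ≤ c) (h : Good a b) : Good a c := by
  induction c, hbc using Nat.le_induction with
  | base => exact h
  | succ n hn ih => exact ih.step ha (hb.trans hn)

theorem good_two (a : ℕ) (ha : 5 ≤ a) : Good a 2 := by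
  have key : 64 * 3 ^ (a * 2) < (Nat.centralBinom a) ^ 3 := by
    induction a, ha using Nat.le_induction with
    | base =>
      have : Nat.centralBinom 5 = 252 := by decide
      rw [this]
      norm_num
    | succ n hn ih =>
      have h1 := Nat.succ_mul_centralBinom_succ n
      have h2 : 3 * Nat.centralBinom n ≤ Nat.centralBinom (n + 1) := by
        have : (n + 1) * (3 * Nat.centralBinom n) ≤ (n + 1) * Nat.centralBinom (n + 1) := by
          rw [h1]
          nlinarith [Nat.centralBinom_pos n]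
        exact Nat.le_of_mul_le_mul_left this (by omega)
      calc 64 * 3 ^ ((n + 1) * 2) = 9 * (64 * 3 ^ (n * 2)) := by ring
        _ ≤ 27 * (64 * 3 ^ (n * 2)) := Nat.mul_le_mul_right _ (by norm_num)
        _ < 27 * (Nat.centralBinom n) ^ 3 := Nat.mul_lt_mul_of_pos_left ih (by norm_num)
        _ = (3 * Nat.centralBinom n) ^ 3 := by ring
        _ ≤ _ := Nat.pow_le_pow_left h2 3
  unfold Good
  have h1 := Nat.add_choose_mul_factorial_mul_factorial a a
  have h2 : (a * 2)! = Nat.centralBinom a * a ! * a ! := by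
    rw [mul_two, ← h1, Nat.centralBinom, two_mul]
  rw [h2]
  have h3 : 0 < a ! := Nat.factorial_pos a
  have h4 : (2 : ℕ)! = 2 := rfl
  calc 8 * 3 ^ (a * 2) * (2 ! * a ! ^ 2) ^ 3 = (64 * 3 ^ (a * 2)) * (a ! * a !) ^ 3 := by rw [h4]; ring
    _ < (Nat.centralBinom a) ^ 3 * (a ! * a !) ^ 3 := by
        apply Nat.mul_lt_mul_of_pos_right key
        positivity
    _ = (Nat.centralBinom a * a ! * a !) ^ 3 := by ring

/-- the imprimitive case -/
theorem good {a b : ℕ} (ha : 2 ≤ a) (hb : 2 ≤ b) (h : 9 ≤ a * b) : Good a b := by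
  rcases Nat.lt_or_ge a 5 with h5 | h5
  · interval_cases a
    · refine Good.of_le le_rfl (by norm_num : 2 ≤ 5) (by omega) ?_
      unfold Good
      simp [Nat.factorial]
    · refine Good.of_le (by norm_num) (by norm_num : 2 ≤ 3) (by omega) ?_
      unfold Good
      simp [Nat.factorial]
    · refine Good.of_le (by norm_num) (by norm_num : 2 ≤ 3) (by omega) ?_
      unfold Good
      simp [Nat.factorial]
  · exact Good.of_le ha le_rfl hb (good_two a h5)

/-- the primitive case -/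
theorem prim_num {m : ℕ} (hm : m = 9 ∨ 11 ≤ m) : 64 * 3 ^ m < (((m + 1) / 2)!) ^ 3 := by
  rcases hm with rfl | hm
  · simp [Nat.factorial]
  · induction m using Nat.strong_induction_on with
    | _ m ih =>
      rcases Nat.lt_or_ge m 13 with h | h
      · interval_cases m <;> simp [Nat.factorial]
      · obtain ⟨k, rfl⟩ : ∃ k, m = k + 2 := ⟨m - 2, by omega⟩
        have h1 := ih k (by omega) (by omega)
        have h2 : (k + 2 + 1) / 2 = (k + 1) / 2 + 1 := by omega
        rw [h2, Nat.factorial_succ]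
        have h3 : 3 ≤ (k + 1) / 2 + 1 := by omega
        have h4 : 3 ^ 3 ≤ ((k + 1) / 2 + 1) ^ 3 := Nat.pow_le_pow_left h3 3
        calc 64 * 3 ^ (k + 2) = 9 * (64 * 3 ^ k) := by ring
          _ ≤ 3 ^ 3 * (64 * 3 ^ k) := Nat.mul_le_mul_right _ (by norm_num)
          _ < 3 ^ 3 * (((k + 1) / 2)!) ^ 3 := Nat.mul_lt_mul_of_pos_left h1 (by norm_num)
          _ ≤ ((k + 1) / 2 + 1) ^ 3 * (((k + 1) / 2)!) ^ 3 := Nat.mul_le_mul_right _ h4
          _ = _ := by rw [mul_pow]

end Cfsg.Agent.H994.Cyc
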