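import Mathlib
import Cfsg.Agent.H386.S3513LW

/-!
# A permutation of `m ≥ 7` points has at least three cycles on `r`-sets, `2 ≤ r ≤ m / 2` (helper994, S3507)
-/

set_option autoImplicit false

namespace Cfsg.Agent.H994.Cyc

open MulAction Equiv
open scoped Pointwise

/-- counting by orbits -/
theorem card_eq_sum_orbits {G Ω : Type*} [Group G] [Finite Ω] [MulAction G Ω] [Fintype (orbitRel.Quotient G Ω)] :
    Nat.card Ω = ∑ q : orbitRel.Quotient G Ω, Nat.card q.orbit := by
  rw [Nat.card_congr (MulAction.selfEquivSigmaOrbits' G Ω), Nat.card_sigma]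

/-- if all orbits are small, there are many of them -/
theorem card_le_mul {G Ω : Type*} [Group G] [Finite Ω] [MulAction G Ω] {b : ℕ}
    (h : ∀ x : Ω, Nat.card (orbit G x) ≤ b) :
    Nat.card Ω ≤ Nat.card (orbitRel.Quotient G Ω) * b := by
  classical
  let _ : Fintype (orbitRel.Quotient G Ω) := Fintype.ofFinite _
  rw [card_eq_sum_orbits (G := G)]
  calc ∑ q : orbitRel.Quotient G Ω, Nat.card q.orbit ≤ ∑ q : orbitRel.Quotient G Ω, b := by
        apply Finset.sum_le_sum
        intro q _
        induction q using Quotient.inductionOn' with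
        | h x =>
          have h3 : MulAction.orbitRel.Quotient.orbit (Quotient.mk'' x : orbitRel.Quotient G Ω) =
              orbit G x := MulAction.orbitRel.Quotient.orbit_mk x
          rw [h3]
          exact h x
    _ = Nat.card (orbitRel.Quotient G Ω) * b := by
        rw [Finset.sum_const, smul_eq_mul, Finset.card_univ, ← Nat.card_eq_fintype_card]

/-- the 2-set `{a, b}` -/
def pr {m : ℕ} (a b : Fin m) (h : a ≠ b) : Set.powersetCard (Fin m) 2 :=
  ⟨{a, b}, Finset.card_pair h⟩

/-- when two pairs are in the same cycle -/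
theorem pr_rel {m : ℕ} {σ : Perm (Fin m)} {a b c d : Fin m} {h : a ≠ b} {h' : c ≠ d}
    (hr : (Quotient.mk'' (pr a b h) : orbitRel.Quotient (Subgroup.zpowers σ) (Set.powersetCard (Fin m) 2)) =
      Quotient.mk'' (pr c d h')) :
    ∃ k : ℤ, ((σ ^ k) c = a ∧ (σ ^ k) d = b) ∨ ((σ ^ k) c = b ∧ (σ ^ k) d = a) := by
  have h1 : (orbitRel (Subgroup.zpowers σ) (Set.powersetCard (Fin m) 2)) (pr a b h) (pr c d h') := Quotient.exact hr
  obtain ⟨⟨_, k, rfl⟩, hk⟩ := h1
  refine ⟨k, ?_⟩
  have h2 : (σ ^ k) • ({c, d} : Finset (Fin m)) = {a, b} := congrArg Subtype.val hk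
  have h3 : ({(σ ^ k) c, (σ ^ k) d} : Finset (Fin m)) = {a, b} := by
    rw [← h2]
    simp [Finset.smul_finset_insert]
  have h4 : (σ ^ k) c ∈ ({a, b} : Finset (Fin m)) := by rw [← h3]; simp
  have h5 : (σ ^ k) d ∈ ({a, b} : Finset (Fin m)) := by rw [← h3]; simp
  have h6 : (σ ^ k) c ≠ (σ ^ k) d := fun h => h' ((σ ^ k).injective h)
  simp only [Finset.mem_insert, Finset.mem_singleton] at h4 h5
  rcases h4 with h4 | h4 <;> rcases h5 with h5 | h5
  · exact absurd (h4.trans h5.symm) h6
  · exact Or.inl ⟨h4, h5⟩
  · exact Or.inr ⟨h4, h5⟩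
  · exact absurd (h4.trans h5.symm) h6

/-- pairs in one cycle at different distances -/
theorem pr_dist {m : ℕ} {σ : Perm (Fin m)} {y : Fin m} {i j : ℕ} (hi : y ≠ (σ ^ i) y) (hj : y ≠ (σ ^ j) y)
    (h : (Quotient.mk'' (pr y ((σ ^ i) y) hi) : orbitRel.Quotient (Subgroup.zpowers σ) (Set.powersetCard (Fin m) 2)) =
      Quotient.mk'' (pr y ((σ ^ j) y) hj)) :
    (σ ^ i) y = (σ ^ j) y ∨ (σ ^ (i + j)) y = y := by
  obtain ⟨k, hk | hk⟩ := pr_rel h
  · left
    have h1 : (σ ^ k) ((σ ^ j) y) = (σ ^ j) ((σ ^ k) y) := by
      rw [← Perm.mul_apply, ← Perm.mul_apply, ← zpow_natCast, ← zpow_add, ← zpow_add, add_comm]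
    rw [hk.2, hk.1] at h1
    exact h1
  · right
    have h1 : (σ ^ k) ((σ ^ j) y) = (σ ^ j) ((σ ^ k) y) := by
      rw [← Perm.mul_apply, ← Perm.mul_apply, ← zpow_natCast, ← zpow_add, ← zpow_add, add_comm]
    rw [hk.2, hk.1] at h1
    rw [add_comm, pow_add, Perm.mul_apply]
    exact h1.symm

theorem three_le {Q : Type*} [Finite Q] (a b c : Q) (h1 : a ≠ b) (h2 : a ≠ c) (h3 : b ≠ c) : 3 ≤ Nat.card Q := by
  have h := Nat.card_le_card_of_injective (![a, b, c] : Fin 3 → Q) (by
    intro i j hij
    fin_cases i <;> fin_cases j <;> simp_all)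
  simpa using h

/-- `⟨σ⟩` has at least three orbits on `2`-sets -/
theorem three_le_two {m : ℕ} (hm : 7 ≤ m) (σ : Perm (Fin m)) :
    3 ≤ Nat.card (orbitRel.Quotient (Subgroup.zpowers σ) (Set.powersetCard (Fin m) 2)) := by
  classical
  by_cases hc : 3 ≤ Nat.card (orbitRel.Quotient (Subgroup.zpowers σ) (Fin m))
  · have h1 := Cfsg.Agent.H386.S3513LW.lw_orbits (α := Fin m) (Subgroup.zpowers σ) (k := 1)
      (by rw [Fintype.card_fin]; omega)
    refine le_trans ?_ h1
    refine le_trans hc ?_
    let F : Fin m → Set.powersetCard (Fin m) 1 := fun x => ⟨{x}, Finset.card_singleton x⟩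
    have hF : ∀ (c : Subgroup.zpowers σ) (x : Fin m), F (c • x) = c • F x := by
      intro c x
      apply Subtype.ext
      show ({c • x} : Finset (Fin m)) = (c : Perm (Fin m)) • ({x} : Finset (Fin m))
      rw [Finset.smul_finset_singleton]
      rfl
    refine Nat.card_le_card_of_injective (Quotient.map' F fun a b hab => ?_) ?_
    · obtain ⟨c, rfl⟩ := hab
      exact ⟨c, (hF c b).symm⟩
    · intro a b
      induction a using Quotient.inductionOn' with | h a =>
      induction b using Quotient.inductionOn' with | h b =>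
      intro hab
      have h2 : (orbitRel (Subgroup.zpowers σ) (Set.powersetCard (Fin m) 1)) (F a) (F b) := Quotient.exact hab
      obtain ⟨c, hc⟩ := h2
      apply Quotient.sound
      refine ⟨c, ?_⟩
      have h3 : F (c • b) = F a := by rw [hF]; exact hc
      have h4 := congrArg Subtype.val h3
      exact Finset.singleton_injective h4
  · push Not at hc
    -- an orbit of length at least `4`
    have hex : ∃ y : Fin m, 4 ≤ Nat.card (orbit (Subgroup.zpowers σ) y) ∧
        (Nat.card (orbitRel.Quotient (Subgroup.zpowers σ) (Fin m)) = 1 → 7 ≤ Nat.card (orbit (Subgroup.zpowers σ) y)) := by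
      by_cases h1 : Nat.card (orbitRel.Quotient (Subgroup.zpowers σ) (Fin m)) = 1
      · by_contra hcon
        push Not at hcon
        have h2 := card_le_mul (G := Subgroup.zpowers σ) (Ω := Fin m) (b := 6) (fun x => by
          by_contra h3
          push Not at h3
          have := (hcon x (by omega)).2
          omega)
        rw [h1, Nat.card_fin] at h2
        omega
      · by_contra hcon
        push Not at hcon
        have h2 := card_le_mul (G := Subgroup.zpowers σ) (Ω := Fin m) (b := 3) (fun x => by
          by_contra h3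
          push Not at h3
          exact h1 (hcon x (by omega)).1)
        rw [Nat.card_fin] at h2
        have : Nat.card (orbitRel.Quotient (Subgroup.zpowers σ) (Fin m)) * 3 ≤ 2 * 3 :=
          Nat.mul_le_mul_right _ (by omega)
        omega
    obtain ⟨y, hy4, hy7⟩ := hex
    have hper : ∀ n : ℕ, 0 < n → (σ ^ n) y = y → Nat.card (orbit (Subgroup.zpowers σ) y) ≤ n := by
      intro n hn h
      have h1 := MulAction.minimalPeriod_eq_card (a := σ) (b := y)
      rw [Nat.card_eq_fintype_card, ← h1]
      apply Function.IsPeriodicPt.minimalPeriod_le hn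
      show (fun x => σ • x)^[n] y = y
      have h2 : (fun x : Fin m => σ • x)^[n] y = (σ ^ n) y := by
        clear h
        induction n with
        | zero => rfl
        | succ n ih =>
          rcases Nat.eq_zero_or_pos n with rfl | hn0
          · rfl
          · rw [Function.iterate_succ_apply', ih hn0, pow_succ']
            rfl
      rw [h2, h]
    have hne : ∀ n : ℕ, 0 < n → n < 4 → y ≠ (σ ^ n) y := by
      intro n hn hn4 h
      have := hper n hn h.symm
      omega
    have hne' : ∀ i j : ℕ, i < j → j - i < 4 → (σ ^ i) y ≠ (σ ^ j) y := by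
      intro i j hij h4 h
      apply hne (j - i) (by omega) h4
      apply (σ ^ i).injective
      rw [h, ← Perm.mul_apply, ← pow_add]
      congr 2
      omega
    by_cases h1 : Nat.card (orbitRel.Quotient (Subgroup.zpowers σ) (Fin m)) = 1
    · have h7 := hy7 h1
      refine three_le (Quotient.mk'' (pr y ((σ ^ 1) y) (hne 1 (by omega) (by omega))))
        (Quotient.mk'' (pr y ((σ ^ 2) y) (hne 2 (by omega) (by omega))))
        (Quotient.mk'' (pr y ((σ ^ 3) y) (hne 3 (by omega) (by omega)))) ?_ ?_ ?_
      · intro h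
        rcases pr_dist _ _ h with h | h
        · exact hne' 1 2 (by omega) (by omega) h
        · have := hper 3 (by omega) h
          omega
      · intro h
        rcases pr_dist _ _ h with h | h
        · exact hne' 1 3 (by omega) (by omega) h
        · have := hper 4 (by omega) h
          omega
      · intro h
        rcases pr_dist _ _ h with h | h
        · exact hne' 2 3 (by omega) (by omega) h
        · have := hper 5 (by omega) h
          omega
    · -- two orbits
      obtain ⟨x, hx⟩ : ∃ x : Fin m, ∀ c : ℤ, (σ ^ c) y ≠ x := by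
        by_contra hcon
        push Not at hcon
        apply h1
        have h2 : Subsingleton (orbitRel.Quotient (Subgroup.zpowers σ) (Fin m)) := by
          constructor
          have h3 : ∀ a : orbitRel.Quotient (Subgroup.zpowers σ) (Fin m), a = Quotient.mk'' y := by
            intro a
            induction a using Quotient.inductionOn' with | h a =>
            obtain ⟨c, hc⟩ := hcon a
            apply Quotient.sound
            exact ⟨⟨σ ^ c, c, rfl⟩, hc⟩
          intro a b
          rw [h3 a, h3 b]
        have h4 : Nonempty (orbitRel.Quotient (Subgroup.zpowers σ) (Fin m)) := ⟨Quotient.mk'' y⟩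
        exact Nat.card_unique
      have hxy : x ≠ y := fun h => hx 0 (by simpa using h.symm)
      have hA : ∀ (i : ℕ) (hi : y ≠ (σ ^ i) y),
          (Quotient.mk'' (pr x y hxy) : orbitRel.Quotient (Subgroup.zpowers σ) (Set.powersetCard (Fin m) 2)) ≠
            Quotient.mk'' (pr y ((σ ^ i) y) hi) := by
        intro i hi h
        obtain ⟨k, hk | hk⟩ := pr_rel h
        · exact hx k hk.1
        · apply hx (k + i)
          rw [zpow_add, Perm.mul_apply, zpow_natCast]
          exact hk.2
      refine three_le (Quotient.mk'' (pr x y hxy)) (Quotient.mk'' (pr y ((σ ^ 1) y) (hne 1 (by omega) (by omega))))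
        (Quotient.mk'' (pr y ((σ ^ 2) y) (hne 2 (by omega) (by omega)))) (hA _ _) (hA _ _) ?_
      intro h
      rcases pr_dist _ _ h with h | h
      · exact hne' 1 2 (by omega) (by omega) h
      · have := hper 3 (by omega) h
        omega

/-- `⟨σ⟩` has at least three orbits on `r`-sets -/
theorem three_le_orbits {m : ℕ} (hm : 7 ≤ m) (σ : Perm (Fin m)) {r : ℕ} (hr : 2 ≤ r) (hr2 : 2 * r ≤ m) :
    3 ≤ Nat.card (orbitRel.Quotient (Subgroup.zpowers σ) (Set.powersetCard (Fin m) r)) := by
  induction r, hr using Nat.le_induction with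
  | base => exact three_le_two hm σ
  | succ k hk ih =>
    exact (ih (by omega)).trans (Cfsg.Agent.H386.S3513LW.lw_orbits (α := Fin m) (Subgroup.zpowers σ) (k := k)
      (by rw [Fintype.card_fin]; omega))

end Cfsg.Agent.H994.Cyc
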