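import Mathlib
import Cfsg.Agent.H384.Cyc.Defs
import Cfsg.Agent.H427.Bochert
import Cfsg.Agent.H994.Cyc.Abel
import Cfsg.Agent.H994.Cyc.Emb
import Cfsg.Agent.H994.Cyc.Orb
import Cfsg.Agent.H994.Cyc.Imp
import Cfsg.Agent.H994.Cyc.Num

/-!
# S3507: the alternating socles `A_m`, `m = 9` or `m ≥ 11` (helper994)

* `Ctx` : the situation: `G ≤ S_m` via `θ`, `T.map θ = A_m`, `m ≥ 7`;
* `Ctx.intrans` : if a point stabilizer is intransitive on `Fin m`, the rank is at most `3`;
* `Ctx.imprim` : if it is transitive and imprimitive with blocks of size `a`, then `m! ≤ n * (b! * (a!) ^ b)`;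
* `Ctx.primi` : if it is primitive, then `((m + 1) / 2)! ≤ 2 * n`;
* `row_alt` : the row for `m = 9` and `m ≥ 11`.
-/

set_option autoImplicit false

namespace Cfsg.Agent.H994.Cyc

open MulAction Equiv Cfsg.Agent.H384.Cyc
open scoped Nat Pointwise

universe u v

/-- the situation -/
structure Ctx (G : Type u) (Ω : Type v) [Group G] [MulAction G Ω] (T : Subgroup G) (g : G) (m : ℕ)
    (θ : G →* Perm (Fin m)) : Prop extends TC G Ω T g where
  hm : 7 ≤ m
  inj : Function.Injective θ
  map : T.map θ = alternatingGroup (Fin m)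

variable {G : Type u} {Ω : Type v} [Group G] [MulAction G Ω] {T : Subgroup G} {g : G} {m : ℕ}
  {θ : G →* Perm (Fin m)}

theorem exists_ctx (h : TC G Ω T g) (hm : 7 ≤ m) (e : T ≃* alternatingGroup (Fin m)) :
    ∃ θ : G →* Perm (Fin m), Ctx G Ω T g m θ := by
  have := h.norm
  obtain ⟨θ, h1, h2, -⟩ := exists_hom T h.cent hm e
  exact ⟨θ, { h with hm := hm, inj := h1, map := h2 }⟩

namespace Ctx

theorem alt_le (h : Ctx G Ω T g m θ) : alternatingGroup (Fin m) ≤ θ.range := by
  rw [← h.map]
  exact Subgroup.map_le_range θ T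

theorem isPretransitive (h : Ctx G Ω T g m θ) : IsPretransitive G Ω := h.prim.toIsPretransitive

theorem T_ne_bot (h : Ctx G Ω T g m θ) : T ≠ ⊥ := by
  rintro rfl
  apply h.nonab
  exact ⟨⟨fun a b => by
    have ha := Subgroup.mem_bot.mp a.2
    have hb := Subgroup.mem_bot.mp b.2
    apply Subtype.ext
    rw [Subgroup.coe_mul, Subgroup.coe_mul, ha, hb]⟩⟩

/-- `Ω` is not trivial -/
theorem nontrivial (h : Ctx G Ω T g m θ) : Nontrivial Ω := by
  by_contra hcon
  rw [not_nontrivial_iff_subsingleton] at hcon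
  apply h.T_ne_bot
  rw [eq_bot_iff]
  intro t _
  rw [Subgroup.mem_bot]
  have := h.faithful
  apply FaithfulSMul.eq_of_smul_eq_smul (α := Ω)
  intro x
  exact Subsingleton.elim _ _

theorem coatom (h : Ctx G Ω T g m θ) (α : Ω) : IsCoatom (stabilizer G α) := by
  have := h.nontrivial
  have := h.isPretransitive
  rw [isCoatom_stabilizer_iff_preprimitive]
  exact h.prim

/-- `T` does not fix a point -/
theorem not_le (h : Ctx G Ω T g m θ) (α : Ω) : ¬ T ≤ stabilizer G α := by
  intro hT
  apply h.T_ne_bot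
  rw [eq_bot_iff]
  intro t ht
  rw [Subgroup.mem_bot]
  have := h.faithful
  have := h.isPretransitive
  apply FaithfulSMul.eq_of_smul_eq_smul (α := Ω)
  intro x
  obtain ⟨c, rfl⟩ := exists_smul_eq G α x
  rw [one_smul]
  have h1 : c⁻¹ * t * c⁻¹⁻¹ ∈ T := h.norm.conj_mem t ht c⁻¹
  have h2 := hT h1
  rw [mem_stabilizer_iff, inv_inv, mul_smul, mul_smul, inv_smul_eq_iff] at h2
  exact h2

theorem card_eq (h : Ctx G Ω T g m θ) (α : Ω) :
    Nat.card θ.range = Nat.card Ω * Nat.card ((stabilizer G α).map θ) := by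
  have := h.finG
  have := h.isPretransitive
  have h1 : Nat.card θ.range = Nat.card G := (Nat.card_congr (MonoidHom.ofInjective h.inj).toEquiv).symm
  have h2 : Nat.card ((stabilizer G α).map θ) = Nat.card (stabilizer G α) :=
    (Nat.card_congr ((stabilizer G α).equivMapOfInjective θ h.inj).toEquiv).symm
  rw [h1, h2, ← Subgroup.index_mul_card (stabilizer G α), index_stabilizer_of_transitive]

theorem card_cube_le' (h : Ctx G Ω T g m θ) : Nat.card Ω ^ 3 ≤ 8 * 3 ^ m := by
  have := h.finG
  have := h.finΩ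
  have h1 := card_le_two_mul g h.two
  have h2 := orderOf_perm (θ g)
  rw [orderOf_injective θ h.inj] at h2
  calc Nat.card Ω ^ 3 ≤ (2 * orderOf g) ^ 3 := Nat.pow_le_pow_left h1 3
    _ = 8 * orderOf g ^ 3 := by ring
    _ ≤ _ := Nat.mul_le_mul_left _ h2

/-- an equivariant surjection to an action of `S_m` gives a bound for the number of orbits -/
theorem orbits_le (h : Ctx G Ω T g m θ) {P : Type*} [MulAction (Perm (Fin m)) P] (F : Ω → P)
    (hF : ∀ (c : G) (x : Ω), F (c • x) = θ c • F x) (hsurj : Function.Surjective F) :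
    Nat.card (orbitRel.Quotient (Subgroup.zpowers (θ g)) P) ≤ 2 := by
  have := h.finΩ
  rw [← h.two]
  refine Nat.card_le_card_of_surjective (Quotient.map' F fun a b hab => ?_) ?_
  · obtain ⟨⟨_, k, rfl⟩, rfl⟩ := hab
    refine ⟨⟨θ g ^ k, k, rfl⟩, ?_⟩
    show (θ g ^ k) • F b = F ((g ^ k) • b)
    rw [hF, map_zpow]
  · intro q
    induction q using Quotient.inductionOn' with | h p =>
    obtain ⟨x, rfl⟩ := hsurj p
    exact ⟨Quotient.mk'' x, rfl⟩

/-- **the intransitive case** -/
theorem intrans (h : Ctx G Ω T g m θ) (α : Ω)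
    (hi : ¬ IsPretransitive ((stabilizer G α).map θ) (Fin m)) : rk G Ω ≤ 3 := by
  classical
  have hm := h.hm
  have _ := h.finG
  have _ := h.finΩ
  have hGt := h.isPretransitive
  obtain ⟨H, hH⟩ : ∃ H, H = stabilizer G α := ⟨_, rfl⟩
  rw [← hH] at hi
  -- an invariant set
  obtain ⟨S₀, hS₀, hS₀1, hS₀2⟩ : ∃ S : Finset (Fin m), (∀ c ∈ H, θ c • S = S) ∧ S.Nonempty ∧ S ≠ Finset.univ := by
    have h1 : ∃ x y : Fin m, ∀ c ∈ H, θ c x ≠ y := by
      by_contra hcon
      push Not at hcon
      apply hi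
      constructor
      intro x y
      obtain ⟨c, hc, hc1⟩ := hcon x y
      exact ⟨⟨θ c, Subgroup.mem_map_of_mem θ hc⟩, hc1⟩
    obtain ⟨x, y, hxy⟩ := h1
    have hsub : ∀ d ∈ H, θ d • (Finset.univ.filter fun z => ∃ c ∈ H, θ c x = z) ⊆
        (Finset.univ.filter fun z => ∃ c ∈ H, θ c x = z) := by
      intro d hd z hz
      rw [Finset.mem_smul_finset] at hz
      obtain ⟨w, hw, rfl⟩ := hz
      rw [Finset.mem_filter] at hw ⊢
      obtain ⟨-, c, hc, rfl⟩ := hw
      refine ⟨Finset.mem_univ _, d * c, H.mul_mem hd hc, ?_⟩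
      rw [map_mul]
      rfl
    refine ⟨Finset.univ.filter fun z => ∃ c ∈ H, θ c x = z, ?_, ⟨x, ?_⟩, ?_⟩
    · intro c hc
      exact Finset.eq_of_subset_of_card_le (hsub c hc) (by rw [Finset.card_smul_finset])
    · rw [Finset.mem_filter]
      exact ⟨Finset.mem_univ _, 1, H.one_mem, by simp⟩
    · intro hu
      have : y ∈ Finset.univ.filter fun z => ∃ c ∈ H, θ c x = z := by rw [hu]; exact Finset.mem_univ _
      rw [Finset.mem_filter] at this
      obtain ⟨-, c, hc, hc1⟩ := this
      exact hxy c hc hc1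
  obtain ⟨S, hS, hS1, hS2⟩ : ∃ S : Finset (Fin m), (∀ c ∈ H, θ c • S = S) ∧ S.Nonempty ∧ 2 * S.card ≤ m := by
    by_cases hc : 2 * S₀.card ≤ m
    · exact ⟨S₀, hS₀, hS₀1, hc⟩
    · refine ⟨S₀ᶜ, ?_, ?_, ?_⟩
      · intro c hc
        have h1 := hS₀ c hc
        apply Finset.eq_of_subset_of_card_le
        · intro z hz
          rw [Finset.mem_smul_finset] at hz
          obtain ⟨w, hw, rfl⟩ := hz
          rw [Finset.mem_compl] at hw ⊢
          intro hcon
          apply hw
          rw [← h1] at hcon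
          exact Finset.smul_mem_smul_finset_iff (θ c) |>.mp hcon
        · rw [Finset.card_smul_finset]
      · rw [Finset.nonempty_iff_ne_empty]
        intro h1
        apply hS₀2
        rwa [Finset.compl_eq_empty_iff] at h1
      · rw [Finset.card_compl, Fintype.card_fin]
        omega
  -- `H` is the stabilizer of `S`
  have hHS : ∀ c : G, c ∈ H ↔ θ c • S = S := by
    intro c
    refine ⟨hS c, fun hc => ?_⟩
    let K : Subgroup G := (stabilizer (Perm (Fin m)) S).comap θ
    have hHK : H ≤ K := fun d hd => hS d hd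
    have hK : K ≠ ⊤ := by
      intro hK
      have h1 : ∀ σ ∈ alternatingGroup (Fin m), σ • S = S := by
        intro σ hσ
        obtain ⟨d, rfl⟩ := h.alt_le hσ
        have : d ∈ K := by rw [hK]; trivial
        exact this
      obtain ⟨x, hx⟩ := hS1
      have h2 : ∃ y, y ∉ S := by
        by_contra hcon
        push Not at hcon
        have : S = Finset.univ := by
          ext z
          simp [hcon z]
        rw [this, Finset.card_univ, Fintype.card_fin] at hS2
        omega
      obtain ⟨y, hy⟩ := h2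
      have h3 := alternatingGroup.isPretransitive_of_three_le_card (Fin m) (by rw [Nat.card_fin]; omega)
      obtain ⟨σ, hσ⟩ := h3.exists_smul_eq x y
      apply hy
      rw [← h1 σ σ.2, ← hσ]
      exact Finset.smul_mem_smul_finset hx
    have hco := h.coatom α
    rw [← hH] at hco
    have h1 : K = H := by
      rcases hHK.lt_or_eq with h2 | h2
      · exact absurd (hco.2 K h2) hK
      · exact h2.symm
    rw [← h1]
    exact hc
  obtain ⟨r, hr⟩ : ∃ r, S.card = r := ⟨_, rfl⟩
  have hr1 : 1 ≤ r := by rw [← hr]; exact hS1.card_pos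
  rw [hr] at hS2
  -- the equivariant map
  choose k hk using fun x : Ω => exists_smul_eq G α x
  let F : Ω → Set.powersetCard (Fin m) r := fun x => ⟨θ (k x) • S, by
    show (θ (k x) • S).card = r
    rw [Finset.card_smul_finset, hr]⟩
  have hFS : ∀ (c : G), F (c • α) = θ c • (⟨S, hr⟩ : Set.powersetCard (Fin m) r) := by
    intro c
    apply Subtype.ext
    show θ (k (c • α)) • S = θ c • S
    have h1 : c⁻¹ * k (c • α) ∈ H := by
      rw [hH, mem_stabilizer_iff, mul_smul, hk, inv_smul_smul]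
    rw [hHS, map_mul, map_inv, mul_smul, inv_smul_eq_iff] at h1
    exact h1
  have hFeq : ∀ (c : G) (x : Ω), F (c • x) = θ c • F x := by
    intro c x
    obtain ⟨d, rfl⟩ := exists_smul_eq G α x
    rw [← mul_smul, hFS, hFS, map_mul, mul_smul]
  have hFinj : Function.Injective F := by
    intro x y hxy
    obtain ⟨c, rfl⟩ := exists_smul_eq G α x
    obtain ⟨d, rfl⟩ := exists_smul_eq G α y
    rw [hFS, hFS] at hxy
    have h1 : θ c • S = θ d • S := congrArg Subtype.val hxy
    have h2 : d⁻¹ * c ∈ H := by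
      rw [hHS, map_mul, map_inv, mul_smul, inv_smul_eq_iff]
      exact h1
    rw [hH, mem_stabilizer_iff, mul_smul, inv_smul_eq_iff] at h2
    exact h2
  have hsurj : Function.Surjective F := by
    intro p
    have h1 := Set.powersetCard.isPretransitive_alternatingGroup (α := Fin m) (n := r) (by rw [Nat.card_fin]; omega)
    obtain ⟨σ, hσ⟩ := h1.exists_smul_eq (⟨S, hr⟩ : Set.powersetCard (Fin m) r) p
    obtain ⟨c, hc⟩ := h.alt_le σ.2
    refine ⟨c • α, ?_⟩
    rw [hFS, hc, ← hσ]
    rfl
  have hle := h.orbits_le F hFeq hsurj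
  rcases Nat.lt_or_ge r 2 with hr2 | hr2
  · -- `r = 1`
    have hr' : r = 1 := by omega
    subst hr'
    -- `G` is `2`-transitive
    have h2t : IsMultiplyPretransitive (alternatingGroup (Fin m)) (Fin m) 2 := by
      have h1 := alternatingGroup.isMultiplyPretransitive (Fin m)
      exact isMultiplyPretransitive_of_le (n := Nat.card (Fin m) - 2) (by rw [Nat.card_fin]; omega)
        (by rw [Nat.card_fin]; omega)
    rw [is_two_pretransitive_iff] at h2t
    choose p hp using fun x : Ω => Finset.card_eq_one.mp (F x).2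
    have hpeq : ∀ (c : G) (x : Ω), p (c • x) = θ c (p x) := by
      intro c x
      have h1 := congrArg Subtype.val (hFeq c x)
      have h2 : ((θ c • F x : Set.powersetCard (Fin m) 1) : Finset (Fin m)) = θ c • ((F x : Set.powersetCard (Fin m) 1) : Finset (Fin m)) := rfl
      rw [h2, hp, hp, Finset.smul_finset_singleton] at h1
      exact Finset.singleton_injective h1
    have hpinj : Function.Injective p := by
      intro x y hxy
      apply hFinj
      apply Subtype.ext
      rw [hp, hp, hxy]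
    have htr : ∀ x y x' y' : Ω, x ≠ y → x' ≠ y' → ∃ c : G, c • x = x' ∧ c • y = y' := by
      intro x y x' y' h1 h2
      obtain ⟨σ, hσ1, hσ2⟩ := h2t (hpinj.ne h1) (hpinj.ne h2)
      obtain ⟨c, hc⟩ := h.alt_le σ.2
      refine ⟨c, hpinj ?_, hpinj ?_⟩
      · rw [hpeq, hc]; exact hσ1
      · rw [hpeq, hc]; exact hσ2
    obtain ⟨β, hβ⟩ : ∃ β, β ≠ α := by
      have := h.nontrivial
      exact exists_ne α
    let Q : Fin 3 → orbitRel.Quotient G (Ω × Ω) := ![Quotient.mk'' (α, α), Quotient.mk'' (α, β), Quotient.mk'' (α, β)]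
    have hQ : Function.Surjective Q := by
      intro q
      induction q using Quotient.inductionOn' with | h q =>
      obtain ⟨x, y⟩ := q
      by_cases hxy : x = y
      · subst hxy
        obtain ⟨c, rfl⟩ := exists_smul_eq G α x
        refine ⟨0, ?_⟩
        apply Quotient.sound
        refine ⟨c⁻¹, ?_⟩
        show (c⁻¹ • c • α, c⁻¹ • c • α) = (α, α)
        rw [inv_smul_smul]
      · obtain ⟨c, hc1, hc2⟩ := htr x y α β hxy (Ne.symm hβ)
        refine ⟨1, ?_⟩
        apply Quotient.sound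
        refine ⟨c, ?_⟩
        show (c • x, c • y) = (α, β)
        rw [hc1, hc2]
    have := Nat.card_le_card_of_surjective Q hQ
    rwa [Nat.card_fin] at this
  · exfalso
    have h3 := three_le_orbits hm (θ g) hr2 hS2
    omega

/-- **the imprimitive case** -/
theorem imprim (h : Ctx G Ω T g m θ) (α : Ω) (ht : IsPretransitive ((stabilizer G α).map θ) (Fin m))
    (hp : ¬ IsPreprimitive ((stabilizer G α).map θ) (Fin m)) :
    ∃ a b, 2 ≤ a ∧ 2 ≤ b ∧ a * b = m ∧ m ! ≤ Nat.card Ω * (b ! * (a !) ^ b) := by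
  have hm := h.hm
  have _ := h.finG
  obtain ⟨a, b, ha, hb, hab, hle⟩ := Cyc.imprim h.alt_le (Subgroup.map_le_range θ (stabilizer G α)) ht hp (by omega)
  refine ⟨a, b, ha, hb, hab, ?_⟩
  rw [h.card_eq α] at hle
  have hpos : 0 < Nat.card ((stabilizer G α).map θ) := Nat.card_pos
  apply Nat.le_of_mul_le_mul_right _ hpos
  calc m ! * Nat.card ((stabilizer G α).map θ) ≤
      Nat.card Ω * Nat.card ((stabilizer G α).map θ) * (b ! * (a !) ^ b) := hle
    _ = Nat.card Ω * (b ! * (a !) ^ b) * Nat.card ((stabilizer G α).map θ) := by ring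

/-- **the primitive case** -/
theorem primi (h : Ctx G Ω T g m θ) (α : Ω) (hp : IsPreprimitive ((stabilizer G α).map θ) (Fin m)) :
    ((m + 1) / 2)! ≤ 2 * Nat.card Ω := by
  have hm := h.hm
  have _ := h.finG
  have h1 : ¬ alternatingGroup (Fin m) ≤ (stabilizer G α).map θ := by
    intro hle
    apply h.not_le α
    rw [← h.map] at hle
    exact (Subgroup.map_le_map_iff_of_injective h.inj).mp hle
  have h2 := Cfsg.Agent.H427.bochert _ hp h1
  rw [Fintype.card_fin] at h2
  have h3 := two_mul_card (by omega) h.alt_le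
  rw [h.card_eq α] at h3
  have hpos : 0 < Nat.card ((stabilizer G α).map θ) := Nat.card_pos
  apply Nat.le_of_mul_le_mul_left _ hpos
  calc Nat.card ((stabilizer G α).map θ) * ((m + 1) / 2)! ≤ m ! := h2
    _ ≤ 2 * (Nat.card Ω * Nat.card ((stabilizer G α).map θ)) := h3
    _ = Nat.card ((stabilizer G α).map θ) * (2 * Nat.card Ω) := by ring

end Ctx

/-- the alternating groups of degree `9` and at least `11` -/
def AltBig (T : Type u) [Group T] : Prop :=
  ∃ m : ℕ, (m = 9 ∨ 11 ≤ m) ∧ Nonempty (T ≃* alternatingGroup (Fin m))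

/-- **the alternating row** -/
theorem row_alt : Row3.{u, v} (fun T _ => AltBig T) := by
  intro G Ω _ _ T g hTC hT
  obtain ⟨m, hm, ⟨e⟩⟩ := hT
  obtain ⟨θ, h⟩ := exists_ctx hTC (by omega) e
  obtain ⟨α⟩ : Nonempty Ω := by
    have := h.nontrivial
    infer_instance
  by_cases hi : IsPretransitive ((stabilizer G α).map θ) (Fin m)
  · exfalso
    have hc := h.card_cube_le'
    by_cases hp : IsPreprimitive ((stabilizer G α).map θ) (Fin m)
    · have h1 := h.primi α hp
      have h2 := prim_num hm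
      have h3 : (((m + 1) / 2)!) ^ 3 ≤ 64 * 3 ^ m := by
        calc (((m + 1) / 2)!) ^ 3 ≤ (2 * Nat.card Ω) ^ 3 := Nat.pow_le_pow_left h1 3
          _ = 8 * Nat.card Ω ^ 3 := by ring
          _ ≤ 8 * (8 * 3 ^ m) := Nat.mul_le_mul_left _ hc
          _ = _ := by ring
      omega
    · obtain ⟨a, b, ha, hb, hab, hle⟩ := h.imprim α hi hp
      have h1 := good ha hb (by omega)
      unfold Good at h1
      rw [hab] at h1
      have h2 : (m !) ^ 3 ≤ 8 * 3 ^ m * (b ! * (a !) ^ b) ^ 3 := by
        calc (m !) ^ 3 ≤ (Nat.card Ω * (b ! * (a !) ^ b)) ^ 3 := Nat.pow_le_pow_left hle 3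
          _ = Nat.card Ω ^ 3 * (b ! * (a !) ^ b) ^ 3 := by ring
          _ ≤ _ := Nat.mul_le_mul_right _ hc
      omega
  · exact h.intrans α hi

end Cfsg.Agent.H994.Cyc
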